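import Mathlib
import Groth.Agent.H4Depth.ExtBasic
set_option linter.style.haveILetI false

/-! `Ext^p(M, N) = Hom(M, N/(xs)N)` for a regular sequence killing `M`. -/

universe u

open CategoryTheory Abelian RingTheory.Sequence

namespace Groth.Agent.H23TopDual

variable {A : Type u} [CommRing A]

theorem ext_comp_ofHom_smul (M : ModuleCat.{u} A) (N : Type u) [AddCommGroup N] [Module A N] (r : A)
    (hr : r ∈ Module.annihilator A M) {n : ℕ} (y : Ext M (ModuleCat.of A N) n) :
    y.comp (Ext.mk₀ (ModuleCat.ofHom (LinearMap.lsmul A N r))) (add_zero n) = 0 := by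
  have h : ModuleCat.ofHom (LinearMap.lsmul A N r) = r • 𝟙 (ModuleCat.of A N) := by
    ext z; rfl
  rw [h, ← Ext.smul_eq_comp_mk₀]
  exact H4Depth.ext_smul_eq_zero_of_mem_annihilator_left hr y

theorem ext_regular (M : ModuleCat.{u} A) : ∀ (xs : List A) (N : Type u) [AddCommGroup N] [Module A N],
    IsWeaklyRegular N xs → (∀ r ∈ xs, r ∈ Module.annihilator A M) →
    (∀ i < xs.length, Subsingleton (Ext M (ModuleCat.of A N) i)) ∧
      Nonempty (Ext M (ModuleCat.of A N) xs.length ≃ₗ[A]
        (M →ₗ[A] N ⧸ (Ideal.ofList xs • ⊤ : Submodule A N))) := by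
  intro xs
  induction xs with
  | nil =>
    intro N _ _ _ _
    refine ⟨fun i hi => absurd hi (Nat.not_lt_zero i), ⟨?_⟩⟩
    refine Ext.linearEquiv₀.trans ((ModuleCat.homLinearEquiv (S := A)).trans
      (LinearEquiv.congrRight ?_))
    exact (Submodule.quotEquivOfEqBot _ (by rw [Ideal.ofList_nil, Submodule.bot_smul])).symm
  | cons r rs ih =>
    intro N _ _ hreg hann
    rw [isWeaklyRegular_cons_iff] at hreg
    obtain ⟨hr, hrs⟩ := hreg
    obtain ⟨hlow, ⟨e⟩⟩ := ih (QuotSMulTop r N) hrs fun s hs => hann s (List.mem_cons_of_mem _ hs)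
    have hra := hann r List.mem_cons_self
    let g : N →ₗ[A] QuotSMulTop r N := Submodule.mkQ _
    have hg : Function.Surjective g := Submodule.mkQ_surjective _
    have hfg : Function.Exact (LinearMap.lsmul A N r) g := by
      intro z
      show Submodule.mkQ _ z = 0 ↔ _
      rw [Submodule.mkQ_apply, Submodule.Quotient.mk_eq_zero, Submodule.mem_smul_pointwise_iff_exists]
      simp
    have hS := H4Depth.shortComplexOf_shortExact (LinearMap.lsmul A N r) g hr hg hfg
    have hzero : ∀ n (y : Ext M (ModuleCat.of A N) n),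
        y.comp (Ext.mk₀ (H4Depth.shortComplexOf (LinearMap.lsmul A N r) g hfg).f) (add_zero n) = 0 :=
      fun n y => ext_comp_ofHom_smul M N r hra y
    have hlowN : ∀ i < (r :: rs).length, Subsingleton (Ext M (ModuleCat.of A N) i) := by
      intro i hi
      cases i with
      | zero =>
        refine subsingleton_of_forall_eq 0 fun y => ?_
        haveI : Mono (H4Depth.shortComplexOf (LinearMap.lsmul A N r) g hfg).f := hS.mono_f
        apply Ext.postcomp_mk₀_injective_of_mono M (H4Depth.shortComplexOf (LinearMap.lsmul A N r) g hfg).f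
        exact (hzero 0 y).trans (map_zero ((Ext.mk₀ (H4Depth.shortComplexOf (LinearMap.lsmul A N r) g hfg).f).postcomp M (add_zero 0))).symm
      | succ i =>
        refine subsingleton_of_forall_eq 0 fun y => ?_
        obtain ⟨z, hz⟩ := Ext.covariant_sequence_exact₁ M hS y (hzero _ y) rfl
        rw [← hz, show z = 0 from @Subsingleton.elim _
          (hlow i (by simp only [List.length_cons] at hi; omega)) _ _]
        simp; rfl
    refine ⟨hlowN, ⟨?_⟩⟩
    let δ : Ext M (ModuleCat.of A (QuotSMulTop r N)) rs.length →ₗ[A]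
        Ext M (ModuleCat.of A N) (rs.length + 1) :=
      { toFun := fun z => z.comp hS.extClass rfl
        map_add' := fun z z' => Ext.add_comp z z' _ _
        map_smul' := fun c z => Ext.smul_comp _ _ _ _ }
    have hinj : Function.Injective δ := by
      rw [injective_iff_map_eq_zero]
      intro z hz
      obtain ⟨w, hw⟩ := Ext.covariant_sequence_exact₃ M hS z rfl hz
      rw [← hw, show w = 0 from @Subsingleton.elim _ (hlowN _ (by simp)) _ _]
      simp; rfl
    have hsurj : Function.Surjective δ := fun y => by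
      obtain ⟨z, hz⟩ := Ext.covariant_sequence_exact₁ M hS y (hzero _ y) rfl
      exact ⟨z, hz⟩
    exact (LinearEquiv.ofBijective δ ⟨hinj, hsurj⟩).symm.trans (e.trans (LinearEquiv.congrRight
      (Submodule.quotOfListConsSMulTopEquivQuotSMulTopInner N r rs).symm))

end Groth.Agent.H23TopDual
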