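import Mathlib
import Groth.Agent.H05EGA4.TopExtPower
import Groth.Agent.H27DR.ExtBaseChange
import Groth.Agent.H22Alg.ExtPowSumAlg
import Groth.Agent.H3CAlg.StablyFreeTop
set_option linter.style.haveILetI false

/-! Determinant of a split extension by a free module; endomorphisms of a module of rank one. -/

universe u

open TensorProduct exteriorPower

namespace Groth.Agent.H23TopDual

variable {R : Type u} [CommRing R]

section RankOne

variable {L : Type u} [AddCommGroup L] [Module R L] [Module.Finite R L] [Module.Projective R L]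
  (hL : ∀ p, Module.rankAtStalk (R := R) L p = 1)

include hL in
theorem rel (φ : L →ₗ[R] R) (x y : L) : φ x • y = φ y • x := by
  classical
  let ψ : L [⋀^Fin 2]→ₗ[R] L :=
    { toFun := fun w => φ (w 0) • w 1 - φ (w 1) • w 0
      map_update_add' := fun w i a b => by
        rename_i inst
        fin_cases i <;> simp [Function.update, add_smul, smul_add] <;> abel
      map_update_smul' := fun w i c a => by
        rename_i inst
        fin_cases i <;> simp [Function.update, mul_smul, smul_sub, smul_comm c]
      map_eq_zero_of_eq' := fun w i j h hne => by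
        fin_cases i <;> fin_cases j <;> simp_all }
  have h0 := H05EGA4.TopExtPower.alternating_eq_zero (by norm_num : 1 < 2) hL ψ
  have h1 : ψ ![x, y] = 0 := by rw [h0]; rfl
  exact sub_eq_zero.1 h1

include hL in
theorem exists_unit_sum : ∃ (n : ℕ) (φ : Fin n → L →ₗ[R] R) (x : Fin n → L), ∑ i, φ i (x i) = 1 := by
  obtain ⟨n, g, hg⟩ := Module.Finite.exists_fin' R L
  obtain ⟨s, hs⟩ := Module.projective_lifting_property g LinearMap.id hg
  let I : Ideal R := ⨆ i : Fin n, LinearMap.range ((LinearMap.proj i).comp s)
  have hI : I = ⊤ := by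
    by_contra hne
    obtain ⟨m, hm, hle⟩ := Ideal.exists_le_maximal I hne
    let p : PrimeSpectrum R := ⟨m, hm.isPrime⟩
    have hsub : Subsingleton (p.asIdeal.ResidueField ⊗[R] L) := by
      refine subsingleton_of_forall_eq 0 fun z => ?_
      induction z using TensorProduct.induction_on with
      | zero => rfl
      | add a b ha hb => rw [ha, hb, add_zero]
      | tmul c l =>
        have hl : l = g (s l) := (LinearMap.congr_fun hs l).symm
        rw [hl, pi_eq_sum_univ' (s l), map_sum, TensorProduct.tmul_sum]
        refine Finset.sum_eq_zero fun i _ => ?_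
        have hi : s l i ∈ m := hle (Submodule.mem_iSup_of_mem i ⟨l, rfl⟩)
        rw [map_smul, ← TensorProduct.smul_tmul, Algebra.smul_def,
          Ideal.algebraMap_residueField_eq_zero.2 hi, zero_mul, TensorProduct.zero_tmul]
    have := hL p
    rw [Module.rankAtStalk_eq, Module.finrank_zero_of_subsingleton] at this
    exact zero_ne_one this
  obtain ⟨f, hf⟩ := (Submodule.mem_iSup_iff_exists_finsupp _ _).1 (hI.ge (Submodule.mem_top : (1 : R) ∈ ⊤))
  choose x hx using fun i => hf.1 i
  refine ⟨n, fun i => (LinearMap.proj i).comp s, x, ?_⟩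
  have h2 := hf.2
  rw [Finsupp.sum_fintype _ _ fun _ => rfl] at h2
  exact (Finset.sum_congr rfl fun i _ => hx i).trans h2

include hL in
theorem bijective_smul_id : Function.Bijective fun c : R => c • (LinearMap.id : L →ₗ[R] L) := by
  obtain ⟨n, φ, x, hx⟩ := exists_unit_sum hL
  constructor
  · intro c d h
    have : ∀ i, c * φ i (x i) = d * φ i (x i) := fun i => by
      simpa using congrArg (φ i) (LinearMap.congr_fun h (x i))
    calc c = c * ∑ i, φ i (x i) := by rw [hx, mul_one]
      _ = d * ∑ i, φ i (x i) := by rw [Finset.mul_sum, Finset.mul_sum]; exact Finset.sum_congr rfl fun i _ => this i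
      _ = d := by rw [hx, mul_one]
  · intro f
    refine ⟨∑ i, φ i (f (x i)), LinearMap.ext fun y => ?_⟩
    show (∑ i, φ i (f (x i))) • y = f y
    calc (∑ i, φ i (f (x i))) • y = ∑ i, φ i y • f (x i) := by
          rw [Finset.sum_smul]
          exact Finset.sum_congr rfl fun i _ => rel hL (φ i) (f (x i)) y
      _ = ∑ i, f (φ i (x i) • y) := Finset.sum_congr rfl fun i _ => by rw [rel hL (φ i) (x i) y, map_smul]
      _ = f y := by rw [← map_sum, ← Finset.sum_smul, hx, one_smul]

end RankOne

section Top

variable {M : Type u} [AddCommGroup M] [Module R M] [Module.Finite R M] [Module.Projective R M]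

theorem rankAtStalk_extPower {n : ℕ} (hM : ∀ p, Module.rankAtStalk (R := R) M p = n)
    [Module.Finite R (⋀[R]^n M)] [Module.Projective R (⋀[R]^n M)] (p : PrimeSpectrum R) :
    Module.rankAtStalk (R := R) (⋀[R]^n M) p = 1 := by
  rw [Module.rankAtStalk_eq]
  let κ := p.asIdeal.ResidueField
  let f : M →ₗ[R] κ ⊗[R] M := TensorProduct.mk R κ M 1
  let F : ↥(⋀[R]^n M) →ₗ[R] ↥(⋀[κ]^n (κ ⊗[R] M)) := alternatingMapLinearEquiv
    { toFun := fun v => ιMulti κ n (f ∘ v)
      map_update_add' := fun v i a b => by
        rw [Function.comp_update, Function.comp_update, Function.comp_update, map_add]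
        exact AlternatingMap.map_update_add _ _ _ _ _
      map_update_smul' := fun v i c a => by
        rw [Function.comp_update, Function.comp_update, map_smul, ← IsScalarTower.algebraMap_smul κ c (f a),
          AlternatingMap.map_update_smul, IsScalarTower.algebraMap_smul]
      map_eq_zero_of_eq' := fun v i j h hne =>
        AlternatingMap.map_eq_zero_of_eq _ _ (congrArg f h) hne }
  have hbc : IsBaseChange κ F := H27DR.isBaseChange_exteriorPower (TensorProduct.isBaseChange R M κ) F
    fun v => by simp only [F, alternatingMapLinearEquiv_apply_ιMulti]; rfl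
  rw [hbc.equiv.finrank_eq, exteriorPower.finrank_eq, ← Module.rankAtStalk_eq, hM p, Nat.choose_self]

end Top

section Split

variable {M P : Type u} [AddCommGroup M] [Module R M] [AddCommGroup P] [Module R P]
  [Module.Finite R M] [Module.Projective R M] [Module.Finite R P] [Module.Projective R P]

/-- `∧ⁿ (P × Rᵖ) ≅ ∧ⁿ⁻ᵖ P`. -/
theorem nonempty_det_equiv {j r n : ℕ} (h : j + r = n) (hM : ∀ p, Module.rankAtStalk (R := R) M p = n)
    (hP : ∀ p, Module.rankAtStalk (R := R) P p = j) (p : M →ₗ[R] P) (q : M →ₗ[R] (Fin r → R))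
    (a : P →ₗ[R] M) (b : (Fin r → R) →ₗ[R] M) (hpa : ∀ x, p (a x) = x) (hqb : ∀ y, q (b y) = y)
    (hpb : ∀ y, p (b y) = 0) (hqa : ∀ x, q (a x) = 0) :
    Nonempty (↥(⋀[R]^n M) ≃ₗ[R] ↥(⋀[R]^j P)) := by
  classical
  haveI hMf : Module.Finite R (⋀[R]^n M) := inferInstance
  haveI hMp : Module.Projective R (⋀[R]^n M) := by
    obtain ⟨l, g, hg⟩ := Module.Finite.exists_fin' R M
    obtain ⟨s, hs⟩ := Module.projective_lifting_property g LinearMap.id hg
    refine Module.Projective.of_split (exteriorPower.map n s) (exteriorPower.map n g) ?_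
    rw [← exteriorPower.map_comp, hs, exteriorPower.map_id]
  haveI hPp : Module.Projective R (⋀[R]^j P) := by
    obtain ⟨l, g, hg⟩ := Module.Finite.exists_fin' R P
    obtain ⟨s, hs⟩ := Module.projective_lifting_property g LinearMap.id hg
    refine Module.Projective.of_split (exteriorPower.map j s) (exteriorPower.map j g) ?_
    rw [← exteriorPower.map_comp, hs, exteriorPower.map_id]
  let e := H3CAlg.StablyFreeTop.topEquiv (H3CAlg.StablyFreeTop.std R r)
  let π : (↥(⋀[R]^j P) ⊗[R] ↥(⋀[R]^r (Fin r → R))) →ₗ[R] ↥(⋀[R]^j P) :=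
    (TensorProduct.rid R _).toLinearMap.comp (LinearMap.lTensor _ e.toLinearMap)
  let Ψ : ↥(⋀[R]^n M) →ₗ[R] ↥(⋀[R]^j P) :=
    alternatingMapLinearEquiv (π.compAlternatingMap (H22Alg.ExtPowSumAlg.compAlt p q j r n h))
  let E := H3CAlg.StablyFreeTop.extend a b h
  let χ : ↥(⋀[R]^j P) →ₗ[R] ↥(⋀[R]^n M) := alternatingMapLinearEquiv
    { toFun := fun x => ιMulti R n (E x)
      map_update_add' := fun x t v w => by
        simp only [E]
        rw [H3CAlg.StablyFreeTop.extend_update, H3CAlg.StablyFreeTop.extend_update,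
          H3CAlg.StablyFreeTop.extend_update, map_add, AlternatingMap.map_update_add]
      map_update_smul' := fun x t c v => by
        simp only [E]
        rw [H3CAlg.StablyFreeTop.extend_update, H3CAlg.StablyFreeTop.extend_update, map_smul,
          AlternatingMap.map_update_smul]
      map_eq_zero_of_eq' := fun x s t hst hne => by
        refine AlternatingMap.map_eq_zero_of_eq _ _ (i := (finSumFinEquiv.trans (finCongr h)) (Sum.inl s))
          (j := (finSumFinEquiv.trans (finCongr h)) (Sum.inl t)) ?_ ?_
        · simp only [E, H3CAlg.StablyFreeTop.extend, Function.comp_apply, Equiv.symm_apply_apply,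
            Sum.elim_inl, hst]
        · exact fun hh => hne (Sum.inl_injective ((finSumFinEquiv.trans (finCongr h)).injective hh)) }
  have hΨχ : ∀ z, Ψ (χ z) = z := by
    suffices hh : Ψ.comp χ = LinearMap.id from LinearMap.congr_fun hh
    apply exteriorPower.linearMap_ext
    refine AlternatingMap.ext fun x => ?_
    show Ψ (χ (ιMulti R j x)) = ιMulti R j x
    simp only [χ, alternatingMapLinearEquiv_apply_ιMulti]
    show Ψ (ιMulti R n (E x)) = ιMulti R j x
    simp only [Ψ, alternatingMapLinearEquiv_apply_ιMulti, LinearMap.compAlternatingMap_apply]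
    have := H22Alg.ExtPowSumAlg.compAlt_mix p q a b hpa hqb hpb hqa h x (H3CAlg.StablyFreeTop.std R r)
    simp only [H22Alg.ExtPowSumAlg.mix] at this
    rw [show E x = Sum.elim (a ∘ x) (b ∘ (H3CAlg.StablyFreeTop.std R r)) ∘
      (finSumFinEquiv.trans (finCongr h)).symm from rfl, this]
    simp [π, e, H3CAlg.StablyFreeTop.topEquiv, Module.Basis.det_self]
  obtain ⟨c, hc⟩ := (bijective_smul_id (rankAtStalk_extPower hM)).2 (χ.comp Ψ)
  have hc1 : c = 1 := by
    refine (bijective_smul_id (rankAtStalk_extPower hP)).1 (LinearMap.ext fun z => ?_)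
    have h1 := LinearMap.congr_fun hc (χ z)
    simp only [LinearMap.smul_apply, LinearMap.id_apply, LinearMap.comp_apply, hΨχ] at h1
    show c • z = (1 : R) • z
    rw [one_smul]
    have h2 := congrArg Ψ h1
    rwa [map_smul, hΨχ] at h2
  refine ⟨LinearEquiv.ofLinear Ψ χ (LinearMap.ext hΨχ) ?_⟩
  simpa [hc1] using hc.symm

end Split

end Groth.Agent.H23TopDual
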