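import Mathlib
import Groth.Agent.H23TopDual.ExtReg
import Groth.Agent.H23TopDual.Rank1
set_option linter.style.haveILetI false

/-! `Ext^p(Ω^{n-p}_{A/J}, Ω^n_A) ≅ A/J` for a smooth complete intersection in a smooth algebra. -/

universe u

open CategoryTheory Abelian RingTheory.Sequence TensorProduct exteriorPower
open scoped KaehlerDifferential

namespace Groth.Agent.H23TopDual

/-- First Koszul vanishing for a weakly regular sequence. -/
theorem mem_of_sum_eq_zero {A : Type u} [CommRing A] : ∀ (xs : List A), IsWeaklyRegular A xs →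
    ∀ e : Fin xs.length → A, ∑ i, e i * xs[i] = 0 → ∀ i, e i ∈ Ideal.ofList xs := by
  intro xs
  induction xs using List.reverseRecOn with
  | nil => exact fun _ _ _ i => i.elim0
  | append_singleton ys x ih =>
    intro hreg e he
    rw [isWeaklyRegular_append_iff, isWeaklyRegular_singleton_iff] at hreg
    obtain ⟨hys, hx⟩ := hreg
    have hlen : (ys ++ [x]).length = ys.length + 1 := by simp
    let e' : Fin (ys.length + 1) → A := fun i => e (i.cast hlen.symm)
    have he' : ∑ i : Fin ys.length, e' i.castSucc * ys[i] + e' (Fin.last _) * x = 0 := by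
      rw [← he, ← (finCongr hlen.symm).sum_comp, Fin.sum_univ_castSucc]
      congr 1
      · refine Finset.sum_congr rfl fun i _ => ?_
        simp [e']
      · simp [e']
    have hxe : e' (Fin.last _) ∈ Ideal.ofList ys := by
      have h1 : x • (Submodule.Quotient.mk (e' (Fin.last _)) : A ⧸ (Ideal.ofList ys • ⊤ : Submodule A A)) =
          x • 0 := by
        rw [smul_zero, ← Submodule.Quotient.mk_smul, Submodule.Quotient.mk_eq_zero, Ideal.smul_eq_mul, Ideal.mul_top,
          smul_eq_mul, mul_comm, eq_neg_of_add_eq_zero_right he']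
        exact neg_mem (sum_mem fun i _ => Ideal.mul_mem_left _ _
          (Ideal.subset_span (List.getElem_mem i.2)))
      have h2 := hx h1
      rwa [Submodule.Quotient.mk_eq_zero, Ideal.smul_eq_mul, Ideal.mul_top] at h2
    have hle : Ideal.ofList ys ≤ Ideal.ofList (ys ++ [x]) :=
      Ideal.span_mono fun a ha => List.mem_append_left _ ha
    have hys_span : Ideal.ofList ys = Ideal.span (Set.range fun i : Fin ys.length => ys[i]) := by
      refine congrArg Ideal.span (Set.ext fun a => ?_)
      simp [List.mem_iff_get]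
    obtain ⟨b, hb⟩ := Ideal.mem_span_range_iff_exists_fun.1 (hys_span.le hxe)
    have h3 : ∑ i : Fin ys.length, (e' i.castSucc + b i * x) * ys[i] = 0 := by
      simp only [add_mul, Finset.sum_add_distrib]
      rw [← he', ← hb, Finset.sum_mul]
      congr 1
      exact Finset.sum_congr rfl fun i _ => mul_right_comm _ _ _
    have h4 := ih hys _ h3
    have h5 : ∀ j, e' j ∈ Ideal.ofList (ys ++ [x]) := by
      refine Fin.lastCases (hle hxe) fun i => ?_
      have h6 : b i * x ∈ Ideal.ofList (ys ++ [x]) :=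
        Ideal.mul_mem_left _ _ (Ideal.subset_span (show x ∈ ys ++ [x] by simp))
      simpa using sub_mem (hle (h4 i)) h6
    exact fun i => h5 (i.cast hlen)

theorem main (k : Type u) [Field k] (A : Type u) [CommRing A] [Algebra k A] [Algebra.Smooth k A]
    (n : ℕ) (hn : ∀ q : PrimeSpectrum A, Module.rankAtStalk (Ω[A⁄k]) q = n) (xs : List A)
    (hreg : IsWeaklyRegular A xs) (J : Ideal A) (hJ : Ideal.ofList xs = J) [Algebra.Smooth k (A ⧸ J)]
    (p : ℕ) (hp : xs.length = p) (hpn : p ≤ n) :
    Nonempty (Abelian.Ext (ModuleCat.of A ↥((⋀[A ⧸ J]^(n - p) (Ω[(A ⧸ J)⁄k])).restrictScalars A))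
      (ModuleCat.of A ↥(⋀[A]^n (Ω[A⁄k]))) p ≃ₗ[A] (A ⧸ J)) := by
  subst hp
  classical
  set R := A ⧸ J
  let M := R ⊗[A] Ω[A⁄k]
  have hsurj : Function.Surjective (algebraMap A R) := Ideal.Quotient.mk_surjective
  have hker : ∀ a, a ∈ RingHom.ker (algebraMap A R) ↔ a ∈ J := fun a => Ideal.Quotient.eq_zero_iff_mem
  have hxJ : ∀ i : Fin xs.length, xs[i] ∈ J := fun i => hJ ▸ Ideal.subset_span (List.getElem_mem i.2)
  have hJspan : J = Ideal.span (Set.range fun i : Fin xs.length => xs[i]) := by
    rw [← hJ]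
    refine congrArg Ideal.span (Set.ext fun a => ?_)
    simp [List.mem_iff_get]
  let j : (Fin xs.length → R) →ₗ[R] M :=
    Fintype.linearCombination R fun i => (1 : R) ⊗ₜ[A] KaehlerDifferential.D k A xs[i]
  let κ := KaehlerDifferential.kerCotangentToTensor k A R
  have hκ : ∀ c : Fin xs.length → A, κ (Ideal.toCotangent _ (∑ i, c i • ⟨xs[i], (hker _).2 (hxJ i)⟩)) =
      j (fun i => algebraMap A R (c i)) := by
    intro c
    simp only [κ, map_sum, map_smul, KaehlerDifferential.kerCotangentToTensor_toCotangent,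
      j, Fintype.linearCombination_apply, IsScalarTower.algebraMap_smul]
  -- injectivity
  have hjinj : Function.Injective j := by
    obtain ⟨l, hl⟩ := (Algebra.FormallySmooth.iff_split_injection (R := k) (P := A) (A := R) hsurj).1 inferInstance
    rw [injective_iff_map_eq_zero]
    intro c hc
    choose c' hc' using fun i => hsurj (c i)
    have h1 : Ideal.toCotangent (RingHom.ker (algebraMap A R))
        (∑ i, c' i • (⟨xs[i], (hker _).2 (hxJ i)⟩ : RingHom.ker (algebraMap A R))) = 0 := by
      rw [← LinearMap.id_apply (R := A) (Ideal.toCotangent _ _), ← hl, LinearMap.comp_apply, hκ,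
        show (fun i => algebraMap A R (c' i)) = c from funext hc', hc, map_zero]
    rw [Ideal.toCotangent_eq_zero] at h1
    simp only [Submodule.coe_smul, AddSubmonoidClass.coe_finsetSum, smul_eq_mul] at h1
    rw [show RingHom.ker (algebraMap A R) = J from Ideal.ext hker, sq] at h1
    conv at h1 => enter [1, 2]; rw [hJspan]
    rw [← Ideal.smul_eq_mul, Submodule.mem_ideal_smul_span_iff_exists_sum] at h1
    obtain ⟨d, hd, hsum⟩ := h1
    rw [Finsupp.sum_fintype _ _ (fun _ => by simp)] at hsum
    have h2 := mem_of_sum_eq_zero xs hreg (fun i => c' i - d i) (by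
      simp only [sub_mul, Finset.sum_sub_distrib]
      exact sub_eq_zero.2 hsum.symm)
    funext i
    rw [← hc' i]
    show Ideal.Quotient.mk J (c' i) = 0
    rw [Ideal.Quotient.eq_zero_iff_mem]
    exact (sub_add_cancel (c' i) (d i)) ▸ add_mem (hJ ▸ h2 i) (hd i)
  -- exactness
  have hex : Function.Exact j (KaehlerDifferential.mapBaseChange k A R) := by
    intro z
    rw [KaehlerDifferential.exact_kerCotangentToTensor_mapBaseChange k A R hsurj z]
    constructor
    · rintro ⟨w, rfl⟩
      obtain ⟨⟨w, hw⟩, rfl⟩ := Ideal.toCotangent_surjective _ w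
      obtain ⟨c, hc⟩ := Ideal.mem_span_range_iff_exists_fun.1 (hJspan.le ((hker w).1 hw))
      refine ⟨fun i => algebraMap A R (c i), ?_⟩
      rw [← hκ]
      congr 2
      ext
      simpa using hc
    · rintro ⟨c, rfl⟩
      choose c' hc' using fun i => hsurj (c i)
      refine ⟨_, (hκ c').trans ?_⟩
      rw [show (fun i => algebraMap A R (c' i)) = c from funext hc']
  have hsurjM := KaehlerDifferential.mapBaseChange_surjective k A R hsurj
  obtain ⟨a, ha⟩ := Module.projective_lifting_property (KaehlerDifferential.mapBaseChange k A R)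
    LinearMap.id hsurjM
  obtain ⟨E, hE1, hE2⟩ := (hex.splitSurjectiveEquiv hjinj ⟨a, ha⟩ : _)
  let q : M →ₗ[R] (Fin xs.length → R) := (LinearMap.fst R _ _).comp E.toLinearMap
  let pr := KaehlerDifferential.mapBaseChange k A R
  let a' : Ω[R⁄k] →ₗ[R] M := E.symm.toLinearMap.comp (LinearMap.inr R _ _)
  have hEj : ∀ y, E (j y) = (y, 0) := fun y => by
    have := LinearMap.congr_fun hE1 y
    simp only [LinearMap.comp_apply, LinearMap.inl_apply, LinearEquiv.coe_coe] at this
    rw [this]
    simp
  have hpr : ∀ z, pr z = (E z).2 := fun z => LinearMap.congr_fun hE2 z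
  have hM : ∀ P, Module.rankAtStalk (R := R) M P = n := fun P => by
    show Module.rankAtStalk (R ⊗[A] Ω[A⁄k]) P = n
    rw [Module.rankAtStalk_baseChange]
    exact hn _
  have hP : ∀ P, Module.rankAtStalk (R := R) Ω[R⁄k] P = n - xs.length := fun P => by
    haveI : Nontrivial R := P.nontrivial
    have h1 := hM P
    rw [Module.rankAtStalk_eq_of_equiv E, Module.rankAtStalk_prod, Pi.add_apply,
      Module.rankAtStalk_eq_finrank_of_free] at h1
    simp at h1
    omega
  obtain ⟨det⟩ := nonempty_det_equiv (R := R) (M := M) (P := Ω[R⁄k]) (j := n - xs.length)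
    (r := xs.length) (by omega) hM hP pr q a' j
    (fun z => by rw [hpr]; simp [a'])
    (fun y => by simp [q, hEj])
    (fun y => by rw [hpr, hEj])
    (fun z => by simp [q, a'])
  -- the quotient of the top forms
  let f : Ω[A⁄k] →ₗ[A] M := TensorProduct.mk A R Ω[A⁄k] 1
  let F : ↥(⋀[A]^n Ω[A⁄k]) →ₗ[A] ↥(⋀[R]^n M) := alternatingMapLinearEquiv
    { toFun := fun v => ιMulti R n (f ∘ v)
      map_update_add' := fun v i a b => by
        rw [Function.comp_update, Function.comp_update, Function.comp_update, map_add]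
        exact AlternatingMap.map_update_add _ _ _ _ _
      map_update_smul' := fun v i c a => by
        rw [Function.comp_update, Function.comp_update, map_smul, ← IsScalarTower.algebraMap_smul R c (f a),
          AlternatingMap.map_update_smul, IsScalarTower.algebraMap_smul]
      map_eq_zero_of_eq' := fun v i j h hne =>
        AlternatingMap.map_eq_zero_of_eq _ _ (congrArg f h) hne }
  have hbc : IsBaseChange R F := H27DR.isBaseChange_exteriorPower (TensorProduct.isBaseChange A Ω[A⁄k] R) F
    fun v => by simp only [F, alternatingMapLinearEquiv_apply_ιMulti]; rfl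
  haveI : Module.Flat A ↥(⋀[A]^n Ω[A⁄k]) := by
    obtain ⟨l, g, hg⟩ := Module.Finite.exists_fin' A Ω[A⁄k]
    obtain ⟨s, hs⟩ := Module.projective_lifting_property g LinearMap.id hg
    haveI : Module.Projective A ↥(⋀[A]^n Ω[A⁄k]) := by
      refine Module.Projective.of_split (exteriorPower.map n s) (exteriorPower.map n g) ?_
      rw [← exteriorPower.map_comp, hs, exteriorPower.map_id]
    infer_instance
  have hregN : IsWeaklyRegular ↥(⋀[A]^n Ω[A⁄k]) xs :=
    ((TensorProduct.rid A ↥(⋀[A]^n Ω[A⁄k])).isWeaklyRegular_congr xs).mp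
      hreg.isWeaklyRegular_lTensor
  obtain ⟨-, ⟨e1⟩⟩ := ext_regular
    (ModuleCat.of A ↥((⋀[R]^(n - xs.length) (Ω[R⁄k])).restrictScalars A)) xs ↥(⋀[A]^n Ω[A⁄k]) hregN
    (fun r hr => Module.mem_annihilator.2 fun z => Subtype.ext (by
      show r • (z.1 : ExteriorAlgebra R Ω[R⁄k]) = 0
      rw [← IsScalarTower.algebraMap_smul R r z.1,
        show algebraMap A R r = 0 from Ideal.Quotient.eq_zero_iff_mem.2 (hJ ▸ Ideal.subset_span hr), zero_smul]))
  let eL : (↥(⋀[A]^n Ω[A⁄k]) ⧸ (Ideal.ofList xs • ⊤ : Submodule A ↥(⋀[A]^n Ω[A⁄k]))) ≃ₗ[A]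
      ↥(⋀[R]^(n - xs.length) Ω[R⁄k]) :=
    (Submodule.quotEquivOfEq _ _ (by rw [hJ])).trans
      ((TensorProduct.quotTensorEquivQuotSMul ↥(⋀[A]^n Ω[A⁄k]) J).symm.trans
        ((hbc.equiv.trans det).restrictScalars A))
  haveI hPproj : Module.Projective R ↥(⋀[R]^(n - xs.length) Ω[R⁄k]) := by
    obtain ⟨l, g, hg⟩ := Module.Finite.exists_fin' R Ω[R⁄k]
    obtain ⟨s, hs⟩ := Module.projective_lifting_property g LinearMap.id hg
    refine Module.Projective.of_split (exteriorPower.map _ s) (exteriorPower.map _ g) ?_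
    rw [← exteriorPower.map_comp, hs, exteriorPower.map_id]
  let idL : ↥((⋀[R]^(n - xs.length) (Ω[R⁄k])).restrictScalars A) ≃ₗ[A] ↥(⋀[R]^(n - xs.length) Ω[R⁄k]) :=
    Submodule.restrictScalarsEquiv A R _ _ |>.restrictScalars A
  let e2 : R ≃ₗ[R] (↥(⋀[R]^(n - xs.length) Ω[R⁄k]) →ₗ[R] ↥(⋀[R]^(n - xs.length) Ω[R⁄k])) :=
    LinearEquiv.ofBijective
      { toFun := fun c => c • LinearMap.id
        map_add' := fun c d => add_smul c d _
        map_smul' := fun c d => mul_smul c d _ }
      (bijective_smul_id (rankAtStalk_extPower hP))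
  exact ⟨e1.trans ((LinearEquiv.arrowCongr idL eL).trans
    ((LinearMap.extendScalarsOfSurjectiveEquiv hsurj).trans (e2.symm.restrictScalars A)))⟩

end Groth.Agent.H23TopDual
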